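import Cfsg.Agent.Lib.ThreeTransp.Indep.Factor
import Cfsg.Agent.S0283

/-!
# Independence in the groups of types M(22), M(23) and M(24)
-/

set_option autoImplicit false
set_option linter.unusedSectionVars false

namespace CfsgLib.ThreeTransp.Indep

open CfsgLib.Sporadic FischerTransitivity Relation UnitarySix

variable {G : Type*} [Group G] [Finite G] {D : Set G}

/-- Neighbourhood quotients at conjugate members are isomorphic. -/
theorem nd_iso (hG : Cfsg.IsThreeTranspositionGroup D) {x : G} (g : G) :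
    Nonempty (NQ D (g * x * g⁻¹) ≃* NQ D x) := by
  have himg : (NH D x).map (MulAut.conj g).toMonoidHom = NH D (g * x * g⁻¹) := by
    rw [NH, MonoidHom.map_closure, NH, ← FischerRankThree.nb_image hG]
    rfl
  let φ : ↥(NH D x) ≃* ↥(NH D (g * x * g⁻¹)) :=
    ((MulAut.conj g).subgroupMap (NH D x)).trans (MulEquiv.subgroupCongr himg)
  refine ⟨(QuotientGroup.congr (Subgroup.center ↥(NH D x))
    (Subgroup.center ↥(NH D (g * x * g⁻¹))) φ (Subgroup.ext fun z => ?_)).symm⟩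
  refine Subgroup.mem_map_equiv.trans ?_
  rw [Subgroup.mem_center_iff, Subgroup.mem_center_iff]
  exact ⟨fun h k => φ.symm.injective (by simpa using h (φ.symm k)),
    fun h k => φ.injective (by simpa using h (φ k))⟩

omit [Finite G] in
theorem exists_noncomm_of_nontrivial (hG : Cfsg.IsThreeTranspositionGroup D) {x : G}
    [Nontrivial (NQ D x)] : ∃ a ∈ Nb D x, ∃ b ∈ Nb D x, ¬ Commute a b := by
  by_contra hcon
  push Not at hcon
  obtain ⟨q, hq⟩ := exists_ne (1 : NQ D x)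
  refine hq ?_
  obtain ⟨z, rfl⟩ := QuotientGroup.mk_surjective q
  rw [QuotientGroup.eq_one_iff]
  have hgen : Subgroup.closure {y : ↥(NH D x) | (y : G) ∈ Nb D x} = ⊤ :=
    Subgroup.closure_closure_coe_preimage
  refine FischerCores.le_center_of_fix (D := {y : ↥(NH D x) | (y : G) ∈ Nb D x})
    (N := ⊤) hgen (fun y hy n hnt => ?_) (Subgroup.mem_top z)
  clear hnt
  have hn : n ∈ Subgroup.closure {y : ↥(NH D x) | (y : G) ∈ Nb D x} := hgen ▸ Subgroup.mem_top n
  induction hn using Subgroup.closure_induction with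
  | mem w hw => exact Subtype.ext (hcon _ hy _ hw).eq
  | one => exact Commute.one_right _
  | mul _ _ _ _ h1 h2 => exact h1.mul_right h2
  | inv _ _ e => exact e.inv_right

/-- Type M(22): independence of five, congruences trivial, and lines at every member. -/
theorem m22_facts (h : Good D) (h22 : Cfsg.IsOfTypeM22 G D) :
    Ind D 5 ∧ (∀ x ∈ D, SepAt D x) ∧ (∀ x ∈ D, WitAt D x) ∧ (∀ x ∈ D, InjAt D x) ∧
      ∀ x ∈ D, LineFacts (ND D x) := by
  obtain ⟨-, d, hd, c, -, -, ⟨F, _, _, hF, ⟨e⟩⟩, -⟩ := h22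
  obtain ⟨hs, hw⟩ := base_sep_wit h.grp (x := d) hF e
  have hsep := sepAt_of_cls h.grp h.cls hd hs
  have hwit := witAt_of_cls h.grp h.cls hd hw
  have hinj : ∀ x ∈ D, InjAt D x := fun x hx => h.injAt hsep hx
  have hsimple := Cfsg.Agent.S0283.result (F := F) (q := 2) (by rw [hF]; norm_num) 6 (by norm_num)
    (by omega)
  haveI := hsimple
  haveI : Nontrivial (NQ D d) := e.toEquiv.nontrivial
  obtain ⟨a, ha, b, hb, hab⟩ := exists_noncomm_of_nontrivial h.grp (x := d)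
  have hI := h.ind_succ (k := 4) (by norm_num) hinj
    (indAt_of_cls h.grp h.cls hd (base_ind h hd hF e ha hb hab))
  refine ⟨hI, hsep, hwit, hinj, fun x hx => ?_⟩
  obtain ⟨g, rfl⟩ := h.cls d hd x hx
  obtain ⟨ψ⟩ := nd_iso h.grp (x := d) g
  have hne := nd_ne_one h hx (nb_conj h.grp g ha) (nb_conj h.grp g hb)
    fun e => hab ((commute_conj_iff g a b).1 e)
  have hL := nd_lineFacts h.grp hF (ψ.trans e)
    ⟨_, nimg_mem (nb_conj h.grp g ha), hne _ (nimg_mem (nb_conj h.grp g ha))⟩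
  rwa [Set.diff_singleton_eq_self fun h1 => hne 1 h1 rfl] at hL

/-- Type M(23): independence of six. -/
theorem m23_facts (h : Good D) (h23 : Cfsg.IsOfTypeM23 G D) :
    Ind D 6 ∧ (∀ x ∈ D, SepAt D x) ∧ ∀ x ∈ D, WitAt D x := by
  obtain ⟨-, d, hd, c, hc, hdc, h22, c₃, hc₃, hrefl⟩ := h23
  have hns := not_solvable_of_quot (not_solvable_of_reflection (by norm_num) hc₃ hrefl)
  obtain ⟨-, hgood, hS, hW⟩ := good_m22 h hd hd hc hdc hns h22
  obtain ⟨hI, -, -, -, -⟩ := m22_facts hgood h22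
  have hsep := sepAt_of_cls h.grp h.cls hd (sepAt_of_sep h.grp hS)
  exact ⟨h.ind_succ (by norm_num) (fun x hx => h.injAt hsep hx)
      (indAt_of_cls h.grp h.cls hd (indAt_of_ind h.grp hI)), hsep,
    witAt_of_cls h.grp h.cls hd (witAt_of_wit h.grp hW)⟩

/-- Type M(24): independence of six. -/
theorem m24_ind (h : Good D) {d₀ : G} (hd₀ : d₀ ∈ D)
    (h2 : Cfsg.pCore 2 ↥(NH D d₀) ≤ Subgroup.center ↥(NH D d₀))
    (h3 : Cfsg.pCore 3 ↥(NH D d₀) ≤ Subgroup.center ↥(NH D d₀))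
    (h24 : Cfsg.IsOfTypeM24 G D) : Ind D 6 := by
  obtain ⟨-, d, hd, c, hc, hdc, h23, N, hN, ⟨eN⟩, -⟩ := h24
  have hns : ¬ Group.IsSolvable ↥(Subgroup.closure (Nb D d ∩ Nb D c)) := by
    refine not_solvable_of_quot fun hs => not_solvable_pomega ?_
    haveI : Group.IsSolvable ↥N :=
      @Group.isSolvable_of_isSolvable_injective _ _ _ _ N.subtype N.subtype_injective hs
    exact Group.isSolvable_of_surjective (f := eN.toMonoidHom) eN.surjective
  obtain ⟨hZ, p, hp, q, hq, hpq, -⟩ := id h23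
  obtain ⟨a, ha, rfl⟩ := exists_nimg hp
  obtain ⟨b, hb, rfl⟩ := exists_nimg hq
  have hab : ¬ Commute a b := fun e => hpq ((nimg_commute_iff h.grp ha hb).2 e)
  have hG1 := nd_grp h.grp (nd_ne_one h hd ha hb hab)
  have hcls := nd_cls h hd
  have hcom := nd_common h hd hc hdc hns d hd
  have hD2 : ∃ u ∈ ND D d, ∃ v ∈ ND D d, u ≠ v := ⟨_, hp, _, hq, fun e => hpq (e ▸ Commute.refl _)⟩
  haveI : Fact (Nat.Prime 2) := ⟨Nat.prime_two⟩
  haveI : Fact (Nat.Prime 3) := ⟨Nat.prime_three⟩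
  have hgood : Good (ND D d) := Good.of_cores hG1 hcls hD2 hZ
    (by rw [nd_core h.grp h.cls hd₀ h2 h3 hd 2]; exact bot_le)
    (by rw [nd_core h.grp h.cls hd₀ h2 h3 hd 3]; exact bot_le) (conn_of_common hcom)
  obtain ⟨hI, hsep1, hwit1⟩ := m23_facts hgood h23
  obtain ⟨-, hS, -⟩ := step hG1 hcls hD2 hZ hcom hsep1 hwit1
  have hsep := sepAt_of_cls h.grp h.cls hd (sepAt_of_sep h.grp hS)
  intro l h1 h2' h3' h4 h5
  exact h.ind_succ (k := 6) (by norm_num) (fun x hx => h.injAt hsep hx)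
    (indAt_of_cls h.grp h.cls hd (indAt_of_ind h.grp hI)) l h1 h2' h3' h4 (h5.trans (by norm_num))

/-- A commuting pair exists as soon as some neighbourhood group is not trivial. -/
theorem exists_pair {d p : G} (hd : d ∈ D) (hp : p ∈ Nb D d) :
    ∃ a ∈ D, ∃ b ∈ D, a ≠ b ∧ Commute a b := ⟨d, hd, p, hp.1, hp.2.1.symm, hp.2.2⟩

theorem good_m22_top (hG : Cfsg.IsThreeTranspositionGroup D)
    (hprim : Cfsg.IsPrimitiveUnderConj D) (h22 : Cfsg.IsOfTypeM22 G D) : Good D := by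
  obtain ⟨hZ, d, hd, c, -, -, ⟨F, _, _, hF, ⟨e⟩⟩, -⟩ := h22
  have hsimple := Cfsg.Agent.S0283.result (F := F) (q := 2) (by rw [hF]; norm_num) 6 (by norm_num)
    (by omega)
  haveI := hsimple
  haveI : Nontrivial (NQ D d) := e.toEquiv.nontrivial
  obtain ⟨a, ha, -⟩ := exists_noncomm_of_nontrivial hG (x := d)
  exact Good.of_primitive hG hprim (exists_pair hd ha) hZ

theorem good_m23_top (hG : Cfsg.IsThreeTranspositionGroup D)
    (hprim : Cfsg.IsPrimitiveUnderConj D) (h23 : Cfsg.IsOfTypeM23 G D) : Good D := by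
  obtain ⟨hZ, d, hd, c, -, -, ⟨-, p, hp, -⟩, -⟩ := h23
  obtain ⟨a, ha, -⟩ := exists_nimg hp
  exact Good.of_primitive hG hprim (exists_pair hd ha) hZ

theorem good_m24_top (hG : Cfsg.IsThreeTranspositionGroup D)
    (hprim : Cfsg.IsPrimitiveUnderConj D) (h24 : Cfsg.IsOfTypeM24 G D) : Good D := by
  obtain ⟨hZ, d, hd, c, -, -, ⟨-, p, hp, -⟩, -⟩ := h24
  obtain ⟨a, ha, -⟩ := exists_nimg hp
  exact Good.of_primitive hG hprim (exists_pair hd ha) hZ

end CfsgLib.ThreeTransp.Indep
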