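import Cfsg.Agent.Lib.ThreeTransp.Indep.Levels

/-!
# Factorisations into commuting transpositions

Factors of equal products commute with each other; independence then makes them equal, and in type
M(22) a product of three has exactly two factorisations.
-/

set_option autoImplicit false
set_option linter.unusedSectionVars false

namespace CfsgLib.ThreeTransp.Indep

open CfsgLib.Sporadic FischerTransitivity Relation UnitarySix

variable {G : Type*} [Group G] {D : Set G}

theorem list_commute_prod {l : List G} {x : G} (h : ∀ a ∈ l, Commute x a) : Commute x l.prod :=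
  Commute.list_prod_right _ _ h

theorem prod_perm {l l' : List G} (hc : ∀ a ∈ l, ∀ b ∈ l, Commute a b) (h : l.Perm l') :
    l.prod = l'.prod :=
  h.prod_eq' (List.Pairwise.imp_of_mem (R := fun _ _ => True)
    (fun {a b} ha hb _ => hc a ha b hb) (List.pairwise_of_forall fun _ _ => trivial))

theorem prod_sq (hG : Cfsg.IsThreeTranspositionGroup D) {l : List G} (hl : ∀ a ∈ l, a ∈ D)
    (hc : ∀ a ∈ l, ∀ b ∈ l, Commute a b) : l.prod * l.prod = 1 := by
  induction l with
  | nil => simp
  | cons a t ih =>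
    have hat : Commute a t.prod :=
      list_commute_prod fun b hb => hc a List.mem_cons_self b (List.mem_cons_of_mem _ hb)
    rw [List.prod_cons, show a * t.prod * (a * t.prod) = a * (t.prod * a) * t.prod by
      simp only [mul_assoc], hat.symm.eq, ← mul_assoc a a, FischerTransitivity.sq hG (hl a List.mem_cons_self),
      one_mul]
    exact ih (fun b hb => hl b (List.mem_cons_of_mem _ hb))
      fun b hb c hc' => hc b (List.mem_cons_of_mem _ hb) c (List.mem_cons_of_mem _ hc')

/-- A member centralising a product of at most three commuting members centralises each. -/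
theorem commute_members (hG : Cfsg.IsThreeTranspositionGroup D) {l : List G} (hnd : l.Nodup)
    (hlen : l.length ≤ 3) (hl : ∀ a ∈ l, a ∈ D) (hc : ∀ a ∈ l, ∀ b ∈ l, Commute a b) {x : G}
    (hx : x ∈ D) (h : Commute x l.prod) : ∀ a ∈ l, Commute x a := by
  classical
  set p : G → Bool := fun a => decide (¬ Commute x a) with hp
  have hperm := List.filter_append_perm p l
  set N := l.filter p with hN
  set C := l.filter (fun a => !p a) with hC
  have hNsub : ∀ a ∈ N, a ∈ l ∧ ¬ Commute x a := fun a ha => by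
    simpa [hN, hp] using ha
  have hCsub : ∀ a ∈ C, a ∈ l ∧ Commute x a := fun a ha => by
    simpa [hC, hp] using ha
  have hprod : l.prod = N.prod * C.prod := by
    rw [← List.prod_append]
    exact prod_perm hc hperm.symm
  have hxN : Commute x N.prod := by
    have h1 := h
    rw [hprod] at h1
    have h2 := h1.mul_right (list_commute_prod fun a ha => (hCsub a ha).2).inv_right
    rwa [mul_inv_cancel_right] at h2
  have hNnd : N.Nodup := hnd.filter _
  have hNlen : N.length ≤ 3 := le_trans (List.length_filter_le _ _) hlen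
  intro a ha
  by_contra hna
  have haN : a ∈ N := by simpa [hN, hp] using And.intro ha hna
  have hcx : ∀ {a : G}, a ∈ N → cj a x = cj x a := fun {a} ha =>
    cj_comm hG (hl a (hNsub a ha).1) hx fun e => (hNsub a ha).2 e.symm
  match hM : N, haN, hNnd, hNlen, hxN with
  | [], haN, _, _, _ => simp at haN
  | [u], _, _, _, hxN =>
    exact (hNsub u (by simp)).2 (by simpa using hxN)
  | [u, v], _, hnd, _, hxN =>
    simp only [List.nodup_cons, List.mem_singleton] at hnd
    simp only [List.prod_cons, List.prod_nil, mul_one] at hxN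
    refine hnd.1 (cj_inj hG hx ?_)
    rw [← hcx (List.mem_cons_self : u ∈ [u, v]),
      ← hcx (List.mem_cons_of_mem _ List.mem_cons_self : v ∈ [u, v])]
    have hu := FischerTransitivity.sq hG (hl u (hNsub u List.mem_cons_self).1)
    calc cj u x = u * x * u * 1 := by rw [cj, mul_one]
      _ = u * x * u * (v * v) := by
        rw [FischerTransitivity.sq hG (hl v (hNsub v (List.mem_cons_of_mem _ List.mem_cons_self)).1)]
      _ = u * (x * (u * v)) * v := by simp only [mul_assoc]
      _ = (u * u) * (v * x * v) := by rw [hxN.eq]; simp only [mul_assoc]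
      _ = cj v x := by rw [hu, one_mul, cj]
  | [u, v, w], _, _, _, hxN =>
    simp only [List.prod_cons, List.prod_nil, mul_one] at hxN
    have hu : u ∈ [u, v, w] := List.mem_cons_self
    have hv : v ∈ [u, v, w] := List.mem_cons_of_mem _ List.mem_cons_self
    have hw : w ∈ [u, v, w] := List.mem_cons_of_mem _ (List.mem_cons_of_mem _ List.mem_cons_self)
    have huD := hl u (hNsub u hu).1
    have hvD := hl v (hNsub v hv).1
    have hwD := hl w (hNsub w hw).1
    have e : cj w x = cj v (cj u x) := by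
      calc cj w x = (v * v) * (w * x * w) := by rw [sq hG hvD, one_mul, cj]
        _ = v * ((u * u) * (v * w * x * w)) := by rw [sq hG huD, one_mul]; simp only [mul_assoc]
        _ = v * u * ((u * (v * w)) * x) * w := by simp only [mul_assoc]
        _ = v * u * (x * (u * (v * w))) * w := by rw [hxN.eq]
        _ = v * (u * x * u) * v * (w * w) := by simp only [mul_assoc]
        _ = cj v (cj u x) := by rw [sq hG hwD, mul_one, cj, cj]
    have h1 : Commute x (cj w x) := by
      rw [e, commute_swap hG hvD, hcx hv, hcx hu, commute_cj hG hx]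
      exact hc v (hNsub v hv).1 u (hNsub u hu).1
    refine (hNsub w hw).2 ((commute_cj hG hx x w).1 ?_)
    rw [cj_self hG hx, ← hcx hw]
    exact h1
  | _ :: _ :: _ :: _ :: _, _, _, hlen, _ => simp only [List.length_cons] at hlen; omega

/-- Equal products have the same factors, or disjoint ones if independence is one short. -/
theorem same_or_disjoint (hG : Cfsg.IsThreeTranspositionGroup D) {k m : ℕ} (hind : Ind D k)
    (hm : m ≤ 3) (hk : 2 * m ≤ k + 2) {l l' : List G}
    (hl : l.Nodup ∧ l.length = m ∧ (∀ a ∈ l, a ∈ D) ∧ (∀ a ∈ l, ∀ b ∈ l, Commute a b))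
    (hl' : l'.Nodup ∧ l'.length = m ∧ (∀ a ∈ l', a ∈ D) ∧ (∀ a ∈ l', ∀ b ∈ l', Commute a b))
    (he : l.prod = l'.prod) :
    (∀ x, x ∈ l ↔ x ∈ l') ∨ (k < 2 * m ∧ ∀ x ∈ l, x ∉ l') := by
  classical
  obtain ⟨hnd, hlen, hD, hc⟩ := hl
  obtain ⟨hnd', hlen', hD', hc'⟩ := hl'
  have hx : ∀ a ∈ l, ∀ b ∈ l', Commute a b := fun a ha => commute_members hG hnd' (by omega) hD'
    hc' (hD a ha) (he ▸ list_commute_prod (hc a ha))
  set A := l.filter (fun a => decide (a ∉ l')) with hA
  set C := l.filter (fun a => !decide (a ∉ l')) with hC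
  set A' := l'.filter (fun a => decide (a ∉ l)) with hA'
  set C' := l'.filter (fun a => !decide (a ∉ l)) with hC'
  have hmA : ∀ {a}, a ∈ A → a ∈ l ∧ a ∉ l' := fun {a} h => by simpa [hA] using h
  have hmA' : ∀ {a}, a ∈ A' → a ∈ l' ∧ a ∉ l := fun {a} h => by simpa [hA'] using h
  have hCC : C.Perm C' := (List.perm_ext_iff_of_nodup (hnd.filter _) (hnd'.filter _)).2 fun a => by
    simp [hC, hC', and_comm]
  have hp := List.filter_append_perm (fun a => decide (a ∉ l')) l
  have hp' := List.filter_append_perm (fun a => decide (a ∉ l)) l'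
  have hlA : A.length + C.length = m := by rw [← hlen, ← hp.length_eq, List.length_append]
  have hlA' : A'.length + C'.length = m := by rw [← hlen', ← hp'.length_eq, List.length_append]
  have hCl : C.length = C'.length := hCC.length_eq
  by_cases h0 : A = []
  · left
    have h0' : A' = [] := List.eq_nil_of_length_eq_zero (by rw [h0] at hlA; simp at hlA; omega)
    intro x
    refine ⟨fun hxl => by_contra fun hn => ?_, fun hxl => by_contra fun hn => ?_⟩
    · have : x ∈ A := by simp [hA, hxl, hn]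
      simp [h0] at this
    · have : x ∈ A' := by simp [hA', hxl, hn]
      simp [h0'] at this
  by_cases hlong : k < A.length + A'.length
  · right
    refine ⟨by omega, fun x hxl hxl' => ?_⟩
    have : C ≠ [] := fun e => by
      have : x ∈ C := by simp [hC, hxl, hxl']
      simp [e] at this
    have := List.length_pos_iff.2 this
    omega
  exfalso
  have hmem : ∀ a ∈ A ++ A', a ∈ l ∨ a ∈ l' := fun a ha =>
    (List.mem_append.1 ha).imp (fun h => (hmA h).1) fun h => (hmA' h).1
  have hall : ∀ a b, (a ∈ l ∨ a ∈ l') → (b ∈ l ∨ b ∈ l') → Commute a b := by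
    rintro a b (ha | ha) (hb | hb)
    exacts [hc a ha b hb, hx a ha b hb, (hx b hb a ha).symm, hc' a ha b hb]
  refine hind (A ++ A') ?_ ?_ (fun a ha b hb => hall a b (hmem a ha) (hmem b hb)) (by simp [h0])
    (by rw [List.length_append]; omega) ?_
  · exact List.nodup_append'.2 ⟨hnd.filter _, hnd'.filter _, fun a ha ha' => (hmA' ha').2 (hmA ha).1⟩
  · exact fun a ha => (hmem a ha).elim (hD a) (hD' a)
  have e1 : l.prod = A.prod * C.prod := by rw [← List.prod_append]; exact prod_perm hc hp.symm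
  have e2 : l'.prod = A'.prod * C'.prod := by rw [← List.prod_append]; exact prod_perm hc' hp'.symm
  have e3 : C.prod = C'.prod :=
    prod_perm (fun a ha b hb => hc a (List.mem_filter.1 ha).1 b (List.mem_filter.1 hb).1) hCC
  rw [e1, e2, e3] at he
  rw [List.prod_append, ← mul_right_cancel he]
  exact prod_sq hG (fun a ha => hD a (hmA ha).1)
    fun a ha b hb => hc a (hmA ha).1 b (hmA hb).1

/-- The other members on the line of three commuting ones. -/
def OnLine (D : Set G) (a b c y : G) : Prop :=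
  y ∈ D ∧ y ≠ a ∧ y ≠ b ∧ y ≠ c ∧ Commute a y ∧ Commute b y ∧ Commute c y ∧
    ∀ e ∈ D, Commute a e → Commute b e → Commute c e → Commute y e

theorem onLine_swap {a b c y : G} (h : OnLine D a b c y) : OnLine D b a c y := by
  obtain ⟨h1, h2, h3, h4, h5, h6, h7, h8⟩ := h
  exact ⟨h1, h3, h2, h4, h6, h5, h7, fun e he ha hb hc => h8 e he hb ha hc⟩

/-- The three further members determined by three commuting ones. -/
theorem exists_line (hG : Cfsg.IsThreeTranspositionGroup D) {a b c : G} (hb : b ∈ Nb D a)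
    (hc : c ∈ Nb D a) (hbc : b ≠ c) (hbc' : Commute b c) (hinj : InjAt D a)
    (hL : LineFacts (ND D a)) :
    ∃ L : List G, L.Nodup ∧ L.length = 3 ∧ (∀ y, y ∈ L ↔ OnLine D a b c y) ∧
      (∀ y ∈ L, ∀ z ∈ L, Commute y z) ∧ Cen D a (b * c * L.prod) ∧
      ∀ r s t : G, r ∈ Nb D a → s ∈ Nb D a → t ∈ Nb D a → [b, c, r, s, t].Nodup →
        (∀ y ∈ [b, c, r, s, t], ∀ z ∈ [b, c, r, s, t], Commute y z) →
        Cen D a (b * c * (r * s * t)) → r ∈ L := by
  classical
  have heq : ∀ {u v : G} (hu : u ∈ Nb D a) (hv : v ∈ Nb D a), nimg hu = nimg hv → u = v :=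
    fun {u v} hu hv e => hinj u hu v hv ((nimg_eq_iff hG hu hv).1 e)
  obtain ⟨Y, hYnd, hYlen, hY, hYc, hYprod, hY5⟩ := hL.five _ (nimg_mem hb) _ (nimg_mem hc)
    (fun e => hbc (heq hb hc e)) ((nimg_commute_iff hG hb hc).2 hbc')
  have hYnb : ∀ q ∈ Y, ∃ (u : G) (hu : u ∈ Nb D a), nimg hu = q := fun q hq =>
    exists_nimg ((hY q).1 hq).1
  choose f hf hfe using hYnb
  set L := Y.pmap f (fun _ h => h) with hLdef
  have hmem : ∀ u, u ∈ L ↔ ∃ hu : u ∈ Nb D a, nimg hu ∈ Y := by
    intro u
    rw [hLdef, List.mem_pmap]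
    constructor
    · rintro ⟨q, hq, rfl⟩
      exact ⟨hf q hq, (hfe q hq).symm ▸ hq⟩
    · rintro ⟨hu, hq⟩
      exact ⟨_, hq, heq (hf _ hq) hu (hfe _ hq)⟩
  have hLnd : L.Nodup := by
    refine List.Nodup.pmap ?_ hYnd
    intro q hq q' hq' e
    rw [← hfe q hq, ← hfe q' hq']
    simp only [e]
  have hLnb : ∀ u ∈ L, u ∈ Nb D a := fun u hu => ((hmem u).1 hu).1
  refine ⟨L, hLnd, by rw [hLdef, List.length_pmap, hYlen], fun y => ⟨?_, ?_⟩, ?_, ?_, ?_⟩
  · intro hy
    obtain ⟨hu, hq⟩ := (hmem y).1 hy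
    obtain ⟨-, h1, h2, h3, h4, h5⟩ := (hY _).1 hq
    refine ⟨hu.1, hu.2.1, fun e => h1 (by subst e; rfl), fun e => h2 (by subst e; rfl), hu.2.2,
      (nimg_commute_iff hG hb hu).1 h3, (nimg_commute_iff hG hc hu).1 h4, fun e he ha hbe hce => ?_⟩
    rcases eq_or_ne e a with rfl | hea
    · exact hu.2.2.symm
    have heN : e ∈ Nb D a := ⟨he, hea, ha⟩
    exact (nimg_commute_iff hG hu heN).1 (h5 _ (nimg_mem heN) ((nimg_commute_iff hG hb heN).2 hbe)
      ((nimg_commute_iff hG hc heN).2 hce))
  · rintro ⟨hyD, hya, hyb, hyc, hay, hby, hcy, hall⟩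
    have hu : y ∈ Nb D a := ⟨hyD, hya, hay⟩
    refine (hmem y).2 ⟨hu, (hY _).2 ⟨nimg_mem hu, fun e => hyb (heq hu hb e),
      fun e => hyc (heq hu hc e), (nimg_commute_iff hG hb hu).2 hby,
      (nimg_commute_iff hG hc hu).2 hcy, fun e he h1 h2 => ?_⟩⟩
    obtain ⟨v, hv, rfl⟩ := exists_nimg he
    exact (nimg_commute_iff hG hu hv).2 (hall v hv.1 hv.2.2 ((nimg_commute_iff hG hb hv).1 h1)
      ((nimg_commute_iff hG hc hv).1 h2))
  · intro y hy z hz
    obtain ⟨hu, hq⟩ := (hmem y).1 hy
    obtain ⟨hv, hr⟩ := (hmem z).1 hz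
    exact (nimg_commute_iff hG hu hv).1 (hYc _ hq _ hr)
  · have hl : ∀ u ∈ b :: c :: L, u ∈ Nb D a := by
      simpa [hb, hc] using hLnb
    have key : (L.pmap (fun u hu => nimg (D := D) (x := a) hu) hLnb) = Y := by
      simp only [hLdef, List.pmap_pmap]
      simp only [hfe, List.pmap_eq_map, List.map_id', List.attach_map_subtype_val]
    have := (nimg_prod (D := D) (x := a) (b :: c :: L) hl).1 (by
      simp only [List.pmap, List.prod_cons]
      rw [key, ← mul_assoc]
      exact hYprod)
    rwa [List.prod_cons, List.prod_cons, ← mul_assoc] at this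
  · intro r s t hr hs ht hnd hcom hcen
    have hl : ∀ u ∈ [b, c, r, s, t], u ∈ Nb D a := by simp [hb, hc, hr, hs, ht]
    refine (hmem r).2 ⟨hr, hY5 _ (nimg hs) (nimg ht) (nimg_mem hr) (nimg_mem hs) (nimg_mem ht)
      ?_ ?_ ?_⟩
    · have := (hnd.pmap (f := fun u hu => nimg (D := D) (x := a) hu) (H := hl)
        fun u hu v hv e => heq hu hv e)
      simpa [List.pmap] using this
    · intro y hy z hz
      have hm : ∀ y ∈ [nimg hb, nimg hc, nimg hr, nimg hs, nimg ht],
          ∃ (u : G) (hu : u ∈ Nb D a), u ∈ [b, c, r, s, t] ∧ nimg hu = y := by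
        intro y hy
        simp only [List.mem_cons, List.not_mem_nil, or_false] at hy
        rcases hy with rfl | rfl | rfl | rfl | rfl
        exacts [⟨b, hb, by simp, rfl⟩, ⟨c, hc, by simp, rfl⟩, ⟨r, hr, by simp, rfl⟩,
          ⟨s, hs, by simp, rfl⟩, ⟨t, ht, by simp, rfl⟩]
      obtain ⟨u, hu, hum, rfl⟩ := hm y hy
      obtain ⟨v, hv, hvm, rfl⟩ := hm z hz
      exact (nimg_commute_iff hG hu hv).2 (hcom u hum v hvm)
    · have := (nimg_prod (D := D) (x := a) [b, c, r, s, t] hl).2 (by
        simpa [mul_assoc] using hcen)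
      simpa [List.pmap, mul_assoc] using this

/-- In type M(22) a product of three has a second factorisation and no third. -/
theorem triple_two [Finite G] (h : Good D) (hind : Ind D 5) (hinj : ∀ x ∈ D, InjAt D x)
    (hL : ∀ x ∈ D, LineFacts (ND D x)) {a b c : G} (ha : a ∈ D) (hb : b ∈ Nb D a) (hc : c ∈ Nb D a)
    (hbc : b ≠ c) (hbc' : Commute b c) :
    ∃ L : List G, (L.Nodup ∧ L.length = 3 ∧ (∀ y ∈ L, y ∈ D) ∧ (∀ y ∈ L, ∀ z ∈ L, Commute y z) ∧
        L.prod = [a, b, c].prod) ∧ a ∉ L ∧
      ∀ l : List G, (l.Nodup ∧ l.length = 3 ∧ (∀ y ∈ l, y ∈ D) ∧ (∀ y ∈ l, ∀ z ∈ l, Commute y z)) →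
        l.prod = [a, b, c].prod → (∀ y, y ∈ l ↔ y ∈ [a, b, c]) ∨ ∀ y, y ∈ l ↔ y ∈ L := by
  classical
  have hG := h.grp
  obtain ⟨L, hnd, hlen, hmem, hcom, hcen, hfive⟩ :=
    exists_line hG hb hc hbc hbc' (hinj a ha) (hL a ha)
  have ha' : a ∈ Nb D b := FischerLines.nb_symm ha hb
  have hc' : c ∈ Nb D b := ⟨hc.1, Ne.symm hbc, hbc'⟩
  obtain ⟨L', hnd', hlen', hmem', hcom', hcen', -⟩ :=
    exists_line hG ha' hc' hc.2.1.symm hc.2.2 (hinj b hb.1) (hL b hb.1)
  have hperm : L'.Perm L := (List.perm_ext_iff_of_nodup hnd' hnd).2 fun y => by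
    rw [hmem, hmem']
    exact ⟨onLine_swap, onLine_swap⟩
  rw [prod_perm hcom' hperm] at hcen'
  have haL : Commute a L.prod := list_commute_prod fun y hy => ((hmem y).1 hy).2.2.2.2.1
  have hbL : Commute b L.prod := list_commute_prod fun y hy => ((hmem y).1 hy).2.2.2.2.2.1
  have hP : a * (b * c * L.prod) = 1 := by
    refine h.eq_one_of_nb ha hb (fun u hu => ?_) (fun u hu => ?_)
    · exact hu.2.2.symm.mul_right (hcen u hu).symm
    · have e : a * (b * c * L.prod) = b * (a * c * L.prod) := by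
        rw [← mul_assoc, ← mul_assoc a b c, ← mul_assoc, hb.2.2.eq]
        simp only [mul_assoc]
      rw [e]
      exact hu.2.2.symm.mul_right (hcen' u hu).symm
  have hT : ∀ y ∈ [a, b, c], y ∈ D := by simp [ha, hb.1, hc.1]
  have hTc : ∀ y ∈ [a, b, c], ∀ z ∈ [a, b, c], Commute y z := by
    simp [hb.2.2, hb.2.2.symm, hc.2.2, hc.2.2.symm, hbc', hbc'.symm, Commute.refl]
  have hTsq := prod_sq hG hT hTc
  simp only [List.prod_cons, List.prod_nil, mul_one] at hTsq
  have hLprod : L.prod = [a, b, c].prod := by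
    simp only [List.prod_cons, List.prod_nil, mul_one]
    exact (mul_left_cancel (a := a * (b * c)) (hTsq.trans (by rw [← hP]; simp only [mul_assoc]))).symm
  refine ⟨L, ⟨hnd, hlen, fun y hy => ((hmem y).1 hy).1, hcom, hLprod⟩,
    fun e => ((hmem a).1 e).2.1 rfl, fun l hl he => ?_⟩
  have hTnd : [a, b, c].Nodup := by
    simp [hb.2.1.symm, hc.2.1.symm, hbc]
  rcases same_or_disjoint hG hind le_rfl (by norm_num) hl ⟨hTnd, rfl, hT, hTc⟩ he with hs | ⟨-, hdis⟩
  · exact Or.inl hs
  right
  obtain ⟨hlnd, hllen, hlD, hlc⟩ := hl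
  obtain ⟨r, s, t, rfl⟩ := List.length_eq_three.1 hllen
  have hlT : ∀ y ∈ [r, s, t], ∀ z ∈ [a, b, c], Commute y z := fun y hy =>
    commute_members hG hTnd le_rfl hT hTc (hlD y hy) (he ▸ list_commute_prod (hlc y hy))
  have hNb : ∀ y ∈ [r, s, t], y ∈ Nb D a := fun y hy =>
    ⟨hlD y hy, fun e => hdis y hy (by simp [e]), (hlT y hy a (by simp)).symm⟩
  have hin : ∀ r' s' t' : G, [r', s', t'].Perm [r, s, t] → r' ∈ L := by
    intro r' s' t' hp
    have hm : ∀ y, y ∈ [r', s', t'] → y ∈ [r, s, t] := fun y hy => hp.subset hy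
    refine hfive r' s' t' (hNb _ (hm _ (by simp))) (hNb _ (hm _ (by simp))) (hNb _ (hm _ (by simp)))
      ?_ ?_ ?_
    · refine (List.nodup_append' (l₁ := [b, c]) (l₂ := [r', s', t'])).2
        ⟨by simp [hbc], hp.nodup_iff.2 hlnd, fun y hy hy' => hdis y (hm y hy') ?_⟩
      exact List.mem_cons_of_mem _ hy
    · intro y hy z hz
      have hc2 : ∀ y, y ∈ [b, c, r', s', t'] → y ∈ [b, c] ∨ y ∈ [r, s, t] := by
        intro y hy
        rcases List.mem_append.1 (show y ∈ [b, c] ++ [r', s', t'] from hy) with h1 | h1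
        exacts [Or.inl h1, Or.inr (hm y h1)]
      rcases hc2 y hy with h1 | h1 <;> rcases hc2 z hz with h2 | h2
      · exact hTc y (List.mem_cons_of_mem _ h1) z (List.mem_cons_of_mem _ h2)
      · exact (hlT z h2 y (List.mem_cons_of_mem _ h1)).symm
      · exact hlT y h1 z (List.mem_cons_of_mem _ h2)
      · exact hlc y h1 z h2
    · have hpr : [r', s', t'].prod = [a, b, c].prod := by
        rw [prod_perm (fun y hy z hz => hlc y (hm y hy) z (hm z hz)) hp, he]
      simp only [List.prod_cons, List.prod_nil, mul_one] at hpr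
      intro u hu
      have e : b * c * (r' * s' * t') = a := by
        rw [mul_assoc r' s' t', hpr]
        have h1 : Commute a (b * c) := hb.2.2.mul_right hc.2.2
        have h2 : b * c * (b * c) = 1 := by
          simpa using prod_sq hG (l := [b, c]) (fun y hy => hT y (List.mem_cons_of_mem _ hy))
            (fun y hy z hz => hTc y (List.mem_cons_of_mem _ hy) z (List.mem_cons_of_mem _ hz))
        rw [h1.eq, ← mul_assoc, h2, one_mul]
      rw [e]
      exact hu.2.2
  intro y
  have hsub : ∀ z ∈ [r, s, t], z ∈ L := by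
    intro z hz
    simp only [List.mem_cons, List.not_mem_nil, or_false] at hz
    rcases hz with rfl | rfl | rfl
    · exact hin z s t (List.Perm.refl _)
    · exact hin z r t (List.Perm.swap _ _ _)
    · exact hin z r s (List.perm_append_comm (l₁ := [z]) (l₂ := [r, s]))
  have hp : [r, s, t].Perm L :=
    (hlnd.subperm hsub).perm_of_length_le (by rw [hlen]; simp)
  exact hp.mem_iff

end CfsgLib.ThreeTransp.Indep
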