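import Cfsg.Agent.Lib.ThreeTransp.Indep.Quot
import Cfsg.Agent.Lib.Components.Quasisimple
import Cfsg.Agent.Lib.Classical.OrthSimple
import Cfsg.Agent.S5360

/-!
# Climbing from the unitary group to the three Fischer groups

Connectedness of the neighbourhood groups, and the passage of separation properties to the groups
of types M(22), M(23) and M(24).
-/

set_option autoImplicit false
set_option linter.unusedSectionVars false

namespace CfsgLib.ThreeTransp.Indep

open CfsgLib.Sporadic FischerTransitivity Relation UnitarySix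

variable {G : Type*} [Group G] [Finite G] {D : Set G}

/-- Two noncommuting members have a common commuting one. -/
def Common (D : Set G) : Prop :=
  ∀ a ∈ D, ∀ b ∈ D, ¬ Commute a b → ∃ e ∈ D, Commute a e ∧ Commute b e

omit [Finite G] in
theorem closure_stable_conj {S : Set G} (hS : ∀ s ∈ S, ∀ t ∈ S, s * t * s⁻¹ ∈ S)
    (hinv : ∀ s ∈ S, s⁻¹ = s) {g : G} (hg : g ∈ Subgroup.closure S) :
    ∀ t ∈ S, g * t * g⁻¹ ∈ S := by
  suffices h : (∀ t ∈ S, g * t * g⁻¹ ∈ S) ∧ ∀ t ∈ S, g⁻¹ * t * g ∈ S from h.1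
  induction hg using Subgroup.closure_induction with
  | mem z hz =>
    exact ⟨hS z hz, fun t ht => by simpa [hinv z hz] using hS z hz t ht⟩
  | one => exact ⟨fun t ht => by simpa using ht, fun t ht => by simpa using ht⟩
  | mul x y _ _ hx hy =>
    exact ⟨fun t ht => by simpa [mul_assoc] using hx.1 _ (hy.1 t ht),
      fun t ht => by simpa [mul_assoc] using hy.2 _ (hx.2 t ht)⟩
  | inv x _ hx => exact ⟨fun t ht => by simpa using hx.2 t ht, fun t ht => by simpa using hx.1 t ht⟩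

/-- In a set of transpositions generating a nonsolvable group nobody commutes with no other. -/
theorem exists_commuting_in (hG : Cfsg.IsThreeTranspositionGroup D) {S : Set G} (hSD : S ⊆ D)
    (hconj : ∀ s ∈ S, ∀ t ∈ S, s * t * s⁻¹ ∈ S) (hns : ¬ Group.IsSolvable ↥(Subgroup.closure S))
    {x : G} (hx : x ∈ S) : ∃ e ∈ S, e ≠ x ∧ Commute x e := by
  by_contra hcon
  push Not at hcon
  have hinv : ∀ s ∈ S, s⁻¹ = s := fun s hs => inv_eq hG (hSD hs)
  have hiso : ∀ y ∈ S, ∀ e ∈ S, e ≠ y → ¬ Commute y e := by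
    intro y hy e he hne hc
    rcases eq_or_ne y x with rfl | hyx
    · exact hcon e he hne hc
    have hnc : ¬ Commute x y := hcon y hy hyx
    -- the element `x * y` carries `x` to `y`
    have hk : x * y ∈ Subgroup.closure S :=
      mul_mem (Subgroup.subset_closure hx) (Subgroup.subset_closure hy)
    have hmove : (x * y) * x * (x * y)⁻¹ = y := by
      have h3 : cj x y = cj y x := cj_comm hG (hSD hx) (hSD hy) hnc
      rw [mul_inv_rev, hinv x hx, hinv y hy,
        show x * y * x * (y * x) = cj x y * (y * x) from rfl, h3, cj]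
      simp only [mul_assoc]
      rw [← mul_assoc y y x, sq hG (hSD hy), one_mul, sq hG (hSD hx), mul_one]
    have he' := closure_stable_conj hconj hinv (inv_mem hk) e he
    refine hcon _ he' (fun h => hne ?_) ?_
    · have := congrArg (fun t => (x * y) * t * (x * y)⁻¹) h
      rw [hmove] at this
      simpa [mul_assoc] using this
    · have h1 := (commute_conj_iff (x * y)⁻¹ y e).2 hc
      rwa [show (x * y)⁻¹ * y * (x * y)⁻¹⁻¹ = x by
        calc _ = (x * y)⁻¹ * ((x * y) * x * (x * y)⁻¹) * (x * y) := by rw [hmove, inv_inv]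
          _ = x := by group] at h1
  apply hns
  let H := Subgroup.closure S
  let D' : Set ↥H := {z | (z : G) ∈ S}
  have hgen : Subgroup.closure D' = ⊤ := Subgroup.closure_closure_coe_preimage
  have hG' : Cfsg.IsThreeTranspositionGroup D' := by
    refine ⟨⟨fun z hz => ?_, fun z hz w hw => ?_⟩, fun g z hz => ?_, hgen⟩
    · rw [← Subgroup.orderOf_coe]; exact hG.1.1 _ (hSD hz)
    · exact (hG.1.2 _ (hSD hz) _ (hSD hw)).imp (fun h => Subtype.ext h) fun h => Subtype.ext h
    · exact closure_stable_conj hconj hinv g.2 _ hz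
  have hnb : ∀ z ∈ D', Nb D' z = ∅ := fun z hz => Set.eq_empty_iff_forall_notMem.2 fun w hw =>
    hiso z hz w hw.1 (fun e => hw.2.1 (Subtype.ext e)) (hw.2.2.map H.subtype)
  set N := Cfsg.pCore 3 ↥H with hN
  haveI : N.Normal := CfsgLib.Solvable.Cores.pCore_normal 3
  haveI := Fact.mk Nat.prime_three
  haveI := CfsgLib.Solvable.Cores.pCore_isNilpotent (G := ↥H) 3
  have hx' : (⟨x, Subgroup.subset_closure hx⟩ : ↥H) ∈ D' := hx
  set x' : ↥H := ⟨x, Subgroup.subset_closure hx⟩ with hxdef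
  have hmk : ∀ g : ↥H, (QuotientGroup.mk g : ↥H ⧸ N) ∈ Subgroup.zpowers (QuotientGroup.mk x' : ↥H ⧸ N) := by
    intro g
    have hg : g ∈ Subgroup.closure D' := hgen ▸ Subgroup.mem_top g
    induction hg using Subgroup.closure_induction with
    | mem z hz =>
      have := FischerCores.mul_mem_pCore_three hG' hx' hz (by rw [hnb x' hx', hnb z hz])
      have e : (QuotientGroup.mk z : ↥H ⧸ N) = (QuotientGroup.mk x')⁻¹ := by
        rw [eq_inv_iff_mul_eq_one, ← QuotientGroup.mk_mul, QuotientGroup.eq_one_iff]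
        have h1 := ‹N.Normal›.conj_mem _ this x'
        rwa [← mul_assoc, show x' * x' = 1 from Subtype.ext (sq hG (hSD hx)), one_mul,
          show x'⁻¹ = x' from Subtype.ext (hinv x hx)] at h1
      rw [e]
      exact inv_mem (Subgroup.mem_zpowers _)
    | one => exact one_mem _
    | mul a b _ _ ha hb => rw [QuotientGroup.mk_mul]; exact mul_mem ha hb
    | inv a _ ha => rw [QuotientGroup.mk_inv]; exact inv_mem ha
  refine (Group.isSolvable_iff_subgroup_quotient N).2 ⟨inferInstance,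
    Group.isSolvable_of_comm fun a b => ?_⟩
  obtain ⟨a, rfl⟩ := QuotientGroup.mk_surjective a
  obtain ⟨b, rfl⟩ := QuotientGroup.mk_surjective b
  obtain ⟨i, hi⟩ := hmk a
  obtain ⟨j, hj⟩ := hmk b
  rw [← hi, ← hj]
  exact (Commute.zpow_zpow_self _ i j).eq

/-- The neighbourhood groups of a good group are connected. -/
theorem nd_common (h : Good D) {d c : G} (hd : d ∈ D) (hc : c ∈ D) (hdc : ¬ Commute d c)
    (hns : ¬ Group.IsSolvable ↥(Subgroup.closure (Nb D d ∩ Nb D c))) :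
    ∀ x ∈ D, Common (ND D x) := by
  intro x hx p hp q hq hpq
  obtain ⟨a, ha, rfl⟩ := exists_nimg hp
  obtain ⟨b, hb, rfl⟩ := exists_nimg hq
  rw [nimg_commute_iff h.grp ha hb] at hpq
  obtain ⟨g, hgd, hgc⟩ : ∃ g : G, g * a * g⁻¹ = d ∧ g * b * g⁻¹ = c := by
    obtain ⟨g, hg⟩ := h.cls a ha.1 d hd
    have hgb : ¬ Commute d (g * b * g⁻¹) := fun e => hpq ((commute_conj_iff g a b).1 (hg.symm ▸ e))
    obtain ⟨k, hk1, hk2⟩ := h.adj hd (h.grp.2.1 g b hb.1) hc hgb hdc
    refine ⟨k * g, ?_, by simpa [mul_assoc] using hk2⟩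
    rw [← hg] at hk1
    conv_rhs => rw [← hg]
    simpa [mul_assoc] using hk1
  have hS : ∀ s ∈ Nb D d ∩ Nb D c, ∀ t ∈ Nb D d ∩ Nb D c, s * t * s⁻¹ ∈ Nb D d ∩ Nb D c := by
    rintro s ⟨hs1, hs2⟩ t ⟨ht1, ht2⟩
    have h1 := nb_conj h.grp s ht1
    have h2 := nb_conj h.grp s ht2
    rw [hs1.2.2.symm.eq, mul_assoc, mul_inv_cancel, mul_one] at h1
    rw [hs2.2.2.symm.eq, mul_assoc, mul_inv_cancel, mul_one] at h2
    exact ⟨h1, h2⟩
  have hxm : g * x * g⁻¹ ∈ Nb D d ∩ Nb D c :=
    ⟨hgd ▸ nb_conj h.grp g (FischerLines.nb_symm hx ha),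
      hgc ▸ nb_conj h.grp g (FischerLines.nb_symm hx hb)⟩
  obtain ⟨e, he, hne, hce⟩ := exists_commuting_in h.grp (fun z hz => hz.1.1) hS hns hxm
  have he' : g⁻¹ * e * g ∈ Nb D x := mem_nb_conj h.grp ⟨he.1.1, hne, hce⟩
  refine ⟨_, nimg_mem he', ?_, ?_⟩
  · rw [nimg_commute_iff h.grp ha he']
    refine (commute_conj_iff g _ _).1 ?_
    rw [hgd]; simpa [mul_assoc] using he.1.2.2
  · rw [nimg_commute_iff h.grp hb he']
    refine (commute_conj_iff g _ _).1 ?_
    rw [hgc]; simpa [mul_assoc] using he.2.2.2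

omit [Finite G] in
theorem conn_of_common (hc : Common D) : ∀ a ∈ D, ∀ b ∈ D, ReflTransGen (CRel D) a b := by
  intro a ha b hb
  by_cases hab : Commute a b
  · exact ReflTransGen.single ⟨ha, hb, hab⟩
  obtain ⟨e, he, h1, h2⟩ := hc a ha b hb hab
  exact (ReflTransGen.single (show CRel D a e from ⟨ha, he, h1⟩)).tail ⟨he, hb, h2.symm⟩

/-- One step of the climb. -/
theorem step (hG : Cfsg.IsThreeTranspositionGroup D)
    (hcls : ∀ a ∈ D, ∀ b ∈ D, ∃ g : G, g * a * g⁻¹ = b) (hD2 : ∃ a ∈ D, ∃ b ∈ D, a ≠ b)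
    (hZ : Subgroup.center G = ⊥) (hcom : Common D) (hsep : ∀ y ∈ D, SepAt D y)
    (hwit : ∀ y ∈ D, WitAt D y) : Good D ∧ Sep D ∧ Wit D := by
  have hS : Sep D := by
    intro a ha b hb hab
    by_contra hne
    have hab' : Commute a b := ((hab a ha).1 (Commute.refl a)).symm
    obtain ⟨f, hf, hnaf⟩ := exists_adj hG hcls ha hb hne
    refine hne ?_
    have hv : a * b = 1 := eq_one_of_center_bot hG hZ fun e he => by
      by_cases hae : Commute a e
      · exact (hae.mul_left ((hab e he).1 hae)).symm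
      obtain ⟨y, hy, hay, hey⟩ := hcom a ha e he hae
      have hby : Commute b y := (hab y hy).1 hay
      have hya : y ≠ a := fun e' => hae (e' ▸ hey).symm
      have hyb : y ≠ b := fun e' => hae ((hab e he).2 (e' ▸ hey).symm)
      have hyn : y ≠ e := fun e' => hae (e' ▸ hay)
      exact (hsep y hy a ⟨ha, hya.symm, hay.symm⟩ b ⟨hb, hyb.symm, hby.symm⟩
        (fun z hz => hab z hz.1) e ⟨he, hyn.symm, hey.symm⟩).symm
    rw [eq_inv_of_mul_eq_one_left hv, FischerTransitivity.inv_eq hG hb]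
  have hW : Wit D := by
    intro a ha b hb hab
    obtain ⟨y, hy, hay, hby⟩ := hcom a ha b hb hab
    have hya : y ≠ a := fun e => hab (e ▸ hby).symm
    have hyb : y ≠ b := fun e => hab (e ▸ hay)
    obtain ⟨e, he, h1, h2, h3⟩ := hwit y hy a ⟨ha, hya.symm, hay.symm⟩ b ⟨hb, hyb.symm, hby.symm⟩ hab
    exact ⟨e, he.1, h1, h2, h3⟩
  refine ⟨Good.of_cores hG hcls hD2 hZ
    (FischerCores.pCore_two_central hG fun d v h => hS d h.1 v h.2.1 h.2.2)
    (FischerCores.pCore_three_central hG fun d hd v hv heq => ?_) (conn_of_common hcom), hS, hW⟩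
  by_contra hne
  by_cases hc : Commute d v
  · have : v ∈ Nb D v := heq ▸ (⟨hv, Ne.symm hne, hc⟩ : v ∈ Nb D d)
    exact this.2.1 rfl
  obtain ⟨e, he, h1, h2, h3⟩ := hW d hd v hv hc
  have : e ∈ Nb D v := heq ▸ (⟨he, h1, h2⟩ : e ∈ Nb D d)
  exact h3 this.2.2

/-- Central cores of one neighbourhood group give trivial cores of all quotients. -/
theorem nd_core (hG : Cfsg.IsThreeTranspositionGroup D)
    (hcls : ∀ a ∈ D, ∀ b ∈ D, ∃ g : G, g * a * g⁻¹ = b) {d₀ : G} (hd₀ : d₀ ∈ D)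
    (h2 : Cfsg.pCore 2 ↥(NH D d₀) ≤ Subgroup.center ↥(NH D d₀))
    (h3 : Cfsg.pCore 3 ↥(NH D d₀) ≤ Subgroup.center ↥(NH D d₀)) {x : G} (hx : x ∈ D)
    (p : ℕ) [Fact p.Prime] : Cfsg.pCore p (NQ D x) = ⊥ := by
  obtain ⟨g, hg⟩ := hcls x hx d₀ hd₀
  have himg : (NH D x).map (MulAut.conj g).toMonoidHom = NH D d₀ := by
    rw [NH, MonoidHom.map_closure, NH, ← hg, ← FischerRankThree.nb_image hG]
    rfl
  let φ : ↥(NH D x) ≃* ↥(NH D d₀) :=
    ((MulAut.conj g).subgroupMap (NH D x)).trans (MulEquiv.subgroupCongr himg)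
  have hG0 : Cfsg.IsThreeTranspositionGroup {z : ↥(NH D d₀) | (z : G) ∈ Nb D d₀} := by
    refine ⟨⟨fun z hz => ?_, fun z hz w hw => ?_⟩, fun k z hz => ?_,
      Subgroup.closure_closure_coe_preimage⟩
    · rw [← Subgroup.orderOf_coe]; exact hG.1.1 _ hz.1
    · exact (hG.1.2 _ hz.1 _ hw.1).imp (fun h => Subtype.ext h) fun h => Subtype.ext h
    · have h := nb_conj hG (k : G) hz
      rwa [(Good.commute_closure k.2).eq, mul_assoc, mul_inv_cancel, mul_one] at h
  set P := Cfsg.pCore p (NQ D x) with hP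
  haveI : P.Normal := CfsgLib.Solvable.Cores.pCore_normal p
  haveI := CfsgLib.Solvable.Cores.pCore_isNilpotent (G := NQ D x) p
  set π := QuotientGroup.mk' (Subgroup.center ↥(NH D x)) with hπ
  set N := P.comap π with hN
  haveI : N.Normal := inferInstance
  haveI hNs : Group.IsSolvable ↥N := by
    haveI : Group.IsSolvable ↥(Subgroup.center ↥(NH D x)) :=
      Group.isSolvable_of_comm fun a b => Subtype.ext (Subgroup.mem_center_iff.1 b.2 a)
    let f : ↥N →* ↥P := (π.comp N.subtype).codRestrict P fun z => z.2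
    refine Group.isSolvable_of_ker_le_range (Subgroup.inclusion
      (show Subgroup.center ↥(NH D x) ≤ N from fun z hz => by
        rw [hN, Subgroup.mem_comap, hπ, QuotientGroup.mk'_apply, (QuotientGroup.eq_one_iff z).2 hz]
        exact P.one_mem)) f ?_
    intro z hz
    have : π (z : ↥(NH D x)) = 1 := congrArg Subtype.val (MonoidHom.mem_ker.1 hz)
    exact ⟨⟨z, (QuotientGroup.eq_one_iff _).1 this⟩, rfl⟩
  have hle := FischerCores.solvable_normal_le_center hG0 h2 h3 (N.map φ.toMonoidHom)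
    (Subgroup.Normal.map inferInstance _ φ.surjective)
    (Group.isSolvable_of_surjective (f := φ.toMonoidHom.subgroupMap N) (φ.toMonoidHom.subgroupMap_surjective N))
  rw [eq_bot_iff]
  intro q hq
  obtain ⟨z, rfl⟩ := QuotientGroup.mk_surjective q
  rw [Subgroup.mem_bot, QuotientGroup.eq_one_iff, Subgroup.mem_center_iff]
  intro k
  refine φ.injective ?_
  rw [map_mul, map_mul]
  exact Subgroup.mem_center_iff.1 (hle ⟨z, hq, rfl⟩) (φ k)

omit [Finite G] in
theorem not_solvable_of_reflection {X : Type*} [Group X] {n : ℕ} (hn : 5 ≤ n) {μ c : ZMod 3}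
    (hc : c ≠ 0) (h : Cfsg.IsProjReflectionGroupModThree X n μ c) : ¬ Group.IsSolvable X := by
  obtain ⟨Q, hQ, -, ⟨e⟩⟩ := h
  intro hs
  haveI := Group.isSolvable_of_surjective (f := e.toMonoidHom) e.surjective
  set R := Cfsg.reflectionSubgroup (⇑Q) c with hR
  haveI : Group.IsSolvable ↥(Subgroup.center ↥R) :=
    Group.isSolvable_of_comm fun a b => Subtype.ext (Subgroup.mem_center_iff.1 b.2 a)
  haveI : Group.IsSolvable ↥R := (Group.isSolvable_iff_subgroup_quotient (Subgroup.center ↥R)).2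
    ⟨inferInstance, inferInstance⟩
  exact CfsgLib.Components.IsQuasisimple.not_isSolvable
    (Cfsg.Agent.S5360.result n hn Q hQ c hc).1 inferInstance

omit [Finite G] in
theorem not_solvable_pomega :
    ¬ Group.IsSolvable (Cfsg.POmega (ZMod 3) (Cfsg.quadFormPlus 4 (ZMod 3))) := by
  classical
  intro hs
  have h4 : CfsgLib.Orth.Good (ZMod 3) (Fin 4 ⊕ Fin 4 → ZMod 3) :=
    CfsgLib.Orth.good_of_two_ne (by decide)
  have hp := CfsgLib.Classical.hypPairs_plus (F := ZMod 3) 4 (by norm_num)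
  have hn : 5 ≤ Module.finrank (ZMod 3) (Fin 4 ⊕ Fin 4 → ZMod 3) := by
    rw [Module.finrank_pi]; simp
  have hQ := CfsgLib.Orth.plusForm_nondeg (F := ZMod 3) 4
  set K := commutator (CfsgLib.Orth.orthGroup (CfsgLib.Orth.plusForm (ZMod 3) 4)) with hK
  have hqs : Cfsg.IsQuasisimple ↥K :=
    ⟨Subgroup.isPerfect_iff.2 (le_antisymm (Subgroup.commutator_le_self _)
      (CfsgLib.Classical.commutator_perfect hQ h4 hp hn)),
      CfsgLib.Classical.commutator_quotient_simple hQ h4 hp hn⟩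
  refine CfsgLib.Components.IsQuasisimple.not_isSolvable hqs ?_
  set W := Cfsg.Omega (ZMod 3) (Cfsg.quadFormPlus 4 (ZMod 3)) with hW
  haveI : Group.IsSolvable ↥(Subgroup.center ↥W) :=
    Group.isSolvable_of_comm fun a b => Subtype.ext (Subgroup.mem_center_iff.1 b.2 a)
  haveI : Group.IsSolvable ↥W := (Group.isSolvable_iff_subgroup_quotient (Subgroup.center ↥W)).2
    ⟨inferInstance, hs⟩
  exact Group.isSolvable_of_surjective
    (f := (CfsgLib.Classical.omegaEquiv (CfsgLib.Orth.plusForm (ZMod 3) 4)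
      (CfsgLib.Orth.plusForm_apply 4)).toMonoidHom) (MulEquiv.surjective _)

omit [Finite G] in
theorem not_solvable_of_quot {H : Subgroup G}
    (h : ¬ Group.IsSolvable (↥H ⧸ Subgroup.center ↥H)) : ¬ Group.IsSolvable ↥H := fun hs =>
  h (Group.isSolvable_of_surjective (f := QuotientGroup.mk' (Subgroup.center ↥H))
    (QuotientGroup.mk'_surjective _))

/-- The facts transferred to a group of type M(22) inside a good group. -/
theorem good_m22 (h : Good D) {x : G} (hx : x ∈ D) {d c : G} (hd : d ∈ D) (hc : c ∈ D)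
    (hdc : ¬ Commute d c) (hns : ¬ Group.IsSolvable ↥(Subgroup.closure (Nb D d ∩ Nb D c)))
    (h22 : Cfsg.IsOfTypeM22 (NQ D x) (ND D x)) :
    Cfsg.IsThreeTranspositionGroup (ND D x) ∧ Good (ND D x) ∧ Sep (ND D x) ∧ Wit (ND D x) := by
  obtain ⟨hZ, p, hp, q, hq, hpq, ⟨F, _, _, hF, ⟨e⟩⟩, -⟩ := h22
  obtain ⟨a, ha, rfl⟩ := exists_nimg hp
  obtain ⟨b, hb, rfl⟩ := exists_nimg hq
  have hab : ¬ Commute a b := fun e => hpq ((nimg_commute_iff h.grp ha hb).2 e)
  have hG1 := nd_grp h.grp (nd_ne_one h hx ha hb hab)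
  obtain ⟨hs, hw⟩ := base_sep_wit hG1 hF e
  have hcls := nd_cls h hx
  exact ⟨hG1, step hG1 hcls ⟨_, hp, _, hq, fun e => hpq (e ▸ Commute.refl _)⟩ hZ
    (nd_common h hd hc hdc hns x hx) (sepAt_of_cls hG1 hcls hp hs) (witAt_of_cls hG1 hcls hp hw)⟩

/-- Independence at a member whose neighbourhood group is unitary. -/
theorem base_ind (h : Good D) {x : G} (hx : x ∈ D) {F : Type*} [Field F] [Fintype F]
    (hF : Fintype.card F = 4) (e : NQ D x ≃* Cfsg.PSU 6 F 2) {a b : G} (ha : a ∈ Nb D x)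
    (hb : b ∈ Nb D x) (hab : ¬ Commute a b) : IndAt D 4 x := by
  have hne := nd_ne_one h hx ha hb hab
  have hL := nd_lineFacts h.grp hF e ⟨_, nimg_mem ha, hne _ (nimg_mem ha)⟩
  refine indAt_of_ind h.grp fun l hnd hl hc h0 hlen => hL.prod_ne l hnd (fun q hq => ?_) hc h0 hlen
  exact ⟨hl q hq, fun e => hne q (hl q hq) (Set.mem_singleton_iff.1 e)⟩

theorem indAt_conj (hG : Cfsg.IsThreeTranspositionGroup D) {k : ℕ} {x : G} (g : G)
    (h : IndAt D k x) : IndAt D k (g * x * g⁻¹) := by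
  intro l hl0 hlen hlNb hlc hpw hcen
  refine h (l.map fun a => g⁻¹ * a * g) (by simpa using hl0) (by simpa using hlen) ?_ ?_ ?_ ?_
  · intro a ha
    obtain ⟨b, hb, rfl⟩ := List.mem_map.1 ha
    exact mem_nb_conj hG (hlNb b hb)
  · intro a ha b hb
    obtain ⟨a', ha', rfl⟩ := List.mem_map.1 ha
    obtain ⟨b', hb', rfl⟩ := List.mem_map.1 hb
    simpa using (commute_conj_iff g⁻¹ a' b').2 (hlc a' ha' b' hb')
  · rw [List.pairwise_map]
    refine hpw.imp fun {a b} hn hc => hn ?_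
    simpa [mul_assoc] using cen_conj hG g hc
  · have : (l.map fun a => g⁻¹ * a * g).prod = g⁻¹ * l.prod * g := by
      clear hl0 hlen hlNb hlc hpw hcen
      induction l with
      | nil => simp
      | cons a t ih => rw [List.map_cons, List.prod_cons, ih, List.prod_cons]; group
    rw [this]
    intro u hu
    have := (hcen _ (nb_conj hG g hu)).map (MulAut.conj g⁻¹)
    simpa [mul_assoc] using this

theorem indAt_of_cls (hG : Cfsg.IsThreeTranspositionGroup D)
    (hcls : ∀ a ∈ D, ∀ b ∈ D, ∃ g : G, g * a * g⁻¹ = b) {k : ℕ} {x : G} (hx : x ∈ D)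
    (h : IndAt D k x) : ∀ y ∈ D, IndAt D k y := fun y hy => by
  obtain ⟨g, rfl⟩ := hcls x hx y hy
  exact indAt_conj hG g h

end CfsgLib.ThreeTransp.Indep
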