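import Cfsg.Agent.Lib.Sporadic.FischerPrimitive
import Cfsg.Agent.Lib.Sporadic.FischerLines

/-!
# Independence of commuting transpositions: basic notions

A three-transposition group with trivial centre whose graphs are connected, and the properties of
the neighbourhood of a member modulo its centraliser.
-/

set_option autoImplicit false
set_option linter.unusedSectionVars false

namespace CfsgLib.ThreeTransp.Indep

open CfsgLib.Sporadic FischerTransitivity Relation

variable {G : Type*} [Group G]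

/-- The standing facts on a three-transposition group used for factorisations. -/
structure Good (D : Set G) : Prop where
  grp : Cfsg.IsThreeTranspositionGroup D
  cls : ∀ a ∈ D, ∀ b ∈ D, ∃ g : G, g * a * g⁻¹ = b
  two : ∃ a ∈ D, ∃ b ∈ D, a ≠ b
  perf : ⁅commutator G, commutator G⁆ = commutator G
  central : ∀ N : Subgroup G, N.Normal → Group.IsSolvable ↥N → N ≤ commutator G →
    N ≤ Subgroup.center G
  conn : ∀ a ∈ D, ∀ b ∈ D, ReflTransGen (CRel D) a b
  centre : Subgroup.center G = ⊥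

/-- `g` centralises the neighbourhood of `x`. -/
def Cen (D : Set G) (x g : G) : Prop := ∀ u ∈ Nb D x, Commute g u

/-- Neighbours of `x` with the same commuting neighbours are congruent. -/
def SepAt (D : Set G) (x : G) : Prop :=
  ∀ a ∈ Nb D x, ∀ b ∈ Nb D x, (∀ e ∈ Nb D x, Commute a e ↔ Commute b e) → Cen D x (a * b)

/-- Noncommuting neighbours of `x` are separated by a third one. -/
def WitAt (D : Set G) (x : G) : Prop :=
  ∀ a ∈ Nb D x, ∀ b ∈ Nb D x, ¬ Commute a b →
    ∃ e ∈ Nb D x, e ≠ a ∧ Commute a e ∧ ¬ Commute b e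

/-- Congruent neighbours of `x` are equal. -/
def InjAt (D : Set G) (x : G) : Prop := ∀ a ∈ Nb D x, ∀ b ∈ Nb D x, Cen D x (a * b) → a = b

/-- Products of at most `k` pairwise commuting incongruent neighbours are not central. -/
def IndAt (D : Set G) (k : ℕ) (x : G) : Prop :=
  ∀ l : List G, l ≠ [] → l.length ≤ k → (∀ a ∈ l, a ∈ Nb D x) →
    (∀ a ∈ l, ∀ b ∈ l, Commute a b) → l.Pairwise (fun a b => ¬ Cen D x (a * b)) →
    ¬ Cen D x l.prod

/-- Members with the same commuting members are equal. -/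
def Sep (D : Set G) : Prop := ∀ a ∈ D, ∀ b ∈ D, (∀ e ∈ D, Commute a e ↔ Commute b e) → a = b

/-- Noncommuting members are separated by a third one. -/
def Wit (D : Set G) : Prop :=
  ∀ a ∈ D, ∀ b ∈ D, ¬ Commute a b → ∃ e ∈ D, e ≠ a ∧ Commute a e ∧ ¬ Commute b e

/-- Products of at most `k` distinct pairwise commuting members are not trivial. -/
def Ind (D : Set G) (k : ℕ) : Prop :=
  ∀ l : List G, l.Nodup → (∀ a ∈ l, a ∈ D) → (∀ a ∈ l, ∀ b ∈ l, Commute a b) → l ≠ [] →
    l.length ≤ k → l.prod ≠ 1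

theorem commute_conj_iff (g a b : G) : Commute (g * a * g⁻¹) (g * b * g⁻¹) ↔ Commute a b := by
  rw [← MulAut.conj_apply, ← MulAut.conj_apply]
  exact ⟨fun h => by simpa [mul_assoc] using h.map (MulAut.conj g).symm, fun h => h.map (MulAut.conj g)⟩

theorem mem_nb_conj {D : Set G} (hG : Cfsg.IsThreeTranspositionGroup D) {g x u : G}
    (hu : u ∈ Nb D (g * x * g⁻¹)) : g⁻¹ * u * g ∈ Nb D x := by
  have h := nb_conj hG g⁻¹ hu
  simpa [mul_assoc] using h

theorem cen_conj {D : Set G} (hG : Cfsg.IsThreeTranspositionGroup D) {x r : G} (g : G)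
    (h : Cen D x r) : Cen D (g * x * g⁻¹) (g * r * g⁻¹) := fun u hu => by
  have := (h _ (mem_nb_conj hG hu)).map (MulAut.conj g)
  simpa [mul_assoc] using this

theorem sepAt_conj {D : Set G} (hG : Cfsg.IsThreeTranspositionGroup D) {x : G} (g : G)
    (h : SepAt D x) : SepAt D (g * x * g⁻¹) := by
  intro a ha b hb hab
  have hc := cen_conj hG g (h _ (mem_nb_conj hG ha) _ (mem_nb_conj hG hb) fun e he => ?_)
  · simpa [mul_assoc] using hc
  · have h' := hab _ (nb_conj hG g he)
    rwa [show a = g * (g⁻¹ * a * g) * g⁻¹ by simp [mul_assoc], commute_conj_iff,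
      show b = g * (g⁻¹ * b * g) * g⁻¹ by simp [mul_assoc], commute_conj_iff] at h'

theorem witAt_conj {D : Set G} (hG : Cfsg.IsThreeTranspositionGroup D) {x : G} (g : G)
    (h : WitAt D x) : WitAt D (g * x * g⁻¹) := by
  intro a ha b hb hab
  have ea : a = g * (g⁻¹ * a * g) * g⁻¹ := by simp [mul_assoc]
  have eb : b = g * (g⁻¹ * b * g) * g⁻¹ := by simp [mul_assoc]
  rw [ea, eb, commute_conj_iff] at hab
  obtain ⟨e, he, hne, h1, h2⟩ := h _ (mem_nb_conj hG ha) _ (mem_nb_conj hG hb) hab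
  refine ⟨_, nb_conj hG g he, fun h0 => hne ?_, ?_, ?_⟩
  · rw [← h0]; simp [mul_assoc]
  · rw [ea, commute_conj_iff]; exact h1
  · rw [eb, commute_conj_iff]; exact h2

theorem sepAt_of_cls {D : Set G} (hG : Cfsg.IsThreeTranspositionGroup D)
    (hcls : ∀ a ∈ D, ∀ b ∈ D, ∃ g : G, g * a * g⁻¹ = b) {x : G} (hx : x ∈ D) (h : SepAt D x) :
    ∀ y ∈ D, SepAt D y := fun y hy => by
  obtain ⟨g, rfl⟩ := hcls x hx y hy
  exact sepAt_conj hG g h

theorem witAt_of_cls {D : Set G} (hG : Cfsg.IsThreeTranspositionGroup D)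
    (hcls : ∀ a ∈ D, ∀ b ∈ D, ∃ g : G, g * a * g⁻¹ = b) {x : G} (hx : x ∈ D) (h : WitAt D x) :
    ∀ y ∈ D, WitAt D y := fun y hy => by
  obtain ⟨g, rfl⟩ := hcls x hx y hy
  exact witAt_conj hG g h

theorem eq_one_of_center_bot {D : Set G} (hG : Cfsg.IsThreeTranspositionGroup D)
    (hZ : Subgroup.center G = ⊥) {r : G} (hr : ∀ d ∈ D, Commute d r) : r = 1 := by
  have : r ∈ Subgroup.center G :=
    FischerCores.le_center_of_fix (D := D) (N := Subgroup.zpowers r) hG.2.2
      (fun d hd n hn => by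
        obtain ⟨k, rfl⟩ := hn
        exact (hr d hd).zpow_right k) (Subgroup.mem_zpowers r)
  rwa [hZ, Subgroup.mem_bot] at this

/-- The standing facts follow from central cores and connectedness. -/
theorem Good.of_cores [Finite G] {D : Set G} (hG : Cfsg.IsThreeTranspositionGroup D)
    (hcls : ∀ a ∈ D, ∀ b ∈ D, ∃ g : G, g * a * g⁻¹ = b) (hD2 : ∃ a ∈ D, ∃ b ∈ D, a ≠ b)
    (hZ : Subgroup.center G = ⊥) (h2 : Cfsg.pCore 2 G ≤ Subgroup.center G)
    (h3 : Cfsg.pCore 3 G ≤ Subgroup.center G)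
    (hconn : ∀ a ∈ D, ∀ b ∈ D, ReflTransGen (CRel D) a b) : Good D := by
  obtain ⟨L, hL⟩ := FischerLayer.exists_component hG hcls hD2 h2 h3
  have hi := FischerLayer.index_le_two hG hcls hD2 hL hconn
  exact ⟨hG, hcls, hD2, FischerPrimitive.derived_perfect hG hcls hD2 hL hi,
    fun N hN hs _ => FischerCores.solvable_normal_le_center hG h2 h3 N hN hs, hconn, hZ⟩

/-- The standing facts follow from primitivity. -/
theorem Good.of_primitive [Finite G] {D : Set G} (hG : Cfsg.IsThreeTranspositionGroup D)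
    (hprim : Cfsg.IsPrimitiveUnderConj D) (hw : ∃ a ∈ D, ∃ b ∈ D, a ≠ b ∧ Commute a b)
    (hZ : Subgroup.center G = ⊥) : Good D := by
  obtain ⟨h2, h3, hconn⟩ := FischerPrimitive.of_primitive hG hprim hw
  exact Good.of_cores hG hprim.1 hprim.2.1 hZ h2 h3 hconn

namespace Good

variable [Finite G] {D : Set G} (h : Good D)
include h

theorem adj {d a b : G} (hd : d ∈ D) (ha : a ∈ D) (hb : b ∈ D) (hda : ¬ Commute d a)
    (hdb : ¬ Commute d b) : FischerRankThree.PR d a d b :=
  FischerRankThree.adj_transitive h.grp h.cls h.perf h.central hd ha hb hda hdb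

theorem nbtr {x y z : G} (hx : x ∈ D) (hy : y ∈ Nb D x) (hz : z ∈ Nb D x) :
    ∃ g ∈ Subgroup.closure (Nb D x), g * y * g⁻¹ = z :=
  exists_conj h.grp h.cls h.perf h.central hx hy hz

omit [Finite G] h in
theorem commute_closure {x g : G} (hg : g ∈ Subgroup.closure (Nb D x)) : Commute g x := by
  induction hg using Subgroup.closure_induction with
  | mem z hz => exact hz.2.2.symm
  | one => exact Commute.one_left _
  | mul _ _ _ _ h1 h2 => exact h1.mul_left h2
  | inv _ _ h => exact h.inv_left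

theorem pair_transitive {x a y b : G} (hx : x ∈ D) (ha : a ∈ Nb D x) (hy : y ∈ D)
    (hb : b ∈ Nb D y) : ∃ g : G, g * x * g⁻¹ = y ∧ g * a * g⁻¹ = b := by
  obtain ⟨g, rfl⟩ := h.cls x hx y hy
  obtain ⟨k, hk, hkb⟩ := h.nbtr (h.grp.2.1 g x hx) (nb_conj h.grp g ha) hb
  refine ⟨k * g, ?_, by simpa [mul_assoc] using hkb⟩
  have : k * (g * x * g⁻¹) * k⁻¹ = g * x * g⁻¹ := by
    rw [(commute_closure hk).eq, mul_assoc, mul_inv_cancel, mul_one]
  simpa [mul_assoc] using this

theorem exists_noncomm_nb {x y z : G} (hx : x ∈ D) (hy : y ∈ Nb D x) (hz : z ∈ Nb D x)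
    (hne : y ≠ z) : ∃ u ∈ Nb D x, ¬ Commute y u := by
  rcases (connected h.grp h.cls h.perf h.central hx hy hz).cases_head with e | ⟨c, hc, -⟩
  · exact absurd e hne
  · exact ⟨c, hc.2.1, hc.2.2⟩

theorem eq_one_of_nb {x a r : G} (hx : x ∈ D) (ha : a ∈ Nb D x) (h1 : ∀ u ∈ Nb D x, Commute u r)
    (h2 : ∀ u ∈ Nb D a, Commute u r) : r = 1 := by
  let P : G → Prop := fun s => ∀ u ∈ Nb D s, Commute u r
  have step : ∀ s t, s ∈ D → t ∈ Nb D s → P s → P t → ∀ t' ∈ Nb D s, P t' := by
    intro s t hs ht hPs hPt t' ht' u hu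
    obtain ⟨k, hk, hkt⟩ := h.nbtr hs ht ht'
    have hkr : Commute k r := by
      clear hkt
      induction hk using Subgroup.closure_induction with
      | mem z hz => exact hPs z hz
      | one => exact Commute.one_left r
      | mul _ _ _ _ e1 e2 => exact e1.mul_left e2
      | inv _ _ e => exact e.inv_left
    have hm : k⁻¹ * u * k ∈ Nb D t := by
      have := nb_conj h.grp k⁻¹ hu
      rw [← hkt] at this
      simpa [mul_assoc] using this
    have := (hkr.mul_left (hPt _ hm)).mul_left hkr.inv_left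
    simpa [mul_assoc] using this
  have hall : ∀ s, ReflTransGen (CRel D) x s → P s ∧ ∃ t ∈ Nb D s, P t := by
    intro s hs
    induction hs with
    | refl => exact ⟨h1, a, ha, h2⟩
    | @tail b c _ hbc ih =>
      by_cases e : c = b
      · exact e ▸ ih
      obtain ⟨hPb, t, ht, hPt⟩ := ih
      exact ⟨step b t hbc.1 ht hPb hPt c ⟨hbc.2.1, e, hbc.2.2⟩, b,
        ⟨hbc.1, Ne.symm e, hbc.2.2.symm⟩, hPb⟩
  refine eq_one_of_center_bot h.grp h.centre fun d hd => ?_
  obtain ⟨-, t, ht, hPt⟩ := hall d (h.conn x hx d hd)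
  exact hPt d (FischerLines.nb_symm hd ht)

/-- Congruent neighbours are equal. -/
theorem injAt (hsep : ∀ y ∈ D, SepAt D y) {x : G} (hx : x ∈ D) : InjAt D x := by
  intro a ha b hb hab
  by_contra hne
  have haD := ha.1
  have hxa : x ∈ Nb D a := FischerLines.nb_symm hx ha
  have hab' : Commute a b := by
    have h1 := hab a ha
    have h2 : a * (b * a) = a * (a * b) := by rw [← mul_assoc]; exact h1.eq
    exact (mul_left_cancel h2).symm
  have hba : b ∈ Nb D a := ⟨hb.1, Ne.symm hne, hab'⟩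
  have hsub : FischerLines.Pp D x a ⊆ FischerLines.Pp D a b := by
    rintro e ⟨he, hxe, hae⟩
    refine ⟨he, hae, ?_⟩
    rcases eq_or_ne e x with rfl | hex
    · exact hb.2.2.symm
    have h1 : Commute (a * b) e := hab e ⟨he, hex, hxe⟩
    have h2 := (hae.inv_left).mul_left h1
    rwa [inv_mul_cancel_left] at h2
  have heq : FischerLines.Pp D x a = FischerLines.Pp D a b := by
    refine Set.eq_of_subset_of_ncard_le hsub ?_ (Set.toFinite _)
    obtain ⟨g, hg1, hg2⟩ := h.pair_transitive hx ha haD hba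
    have himg := FischerLines.pp_conj h.grp g x a
    rw [hg1, hg2] at himg
    rw [himg, Set.ncard_image_of_injective _ (fun p q e => mul_left_cancel (mul_right_cancel e))]
  have hcen : Cen D a (x * b) := hsep a haD x hxa b hba fun e he => by
    constructor
    · intro hxe
      have : e ∈ FischerLines.Pp D a b := heq ▸ ⟨he.1, hxe, he.2.2⟩
      exact this.2.2
    · intro hbe
      have : e ∈ FischerLines.Pp D x a := heq ▸ ⟨he.1, he.2.2, hbe⟩
      exact this.2.1
  have hP : x * (a * b) = 1 := by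
    refine h.eq_one_of_nb hx ha (fun u hu => ?_) (fun u hu => ?_)
    · exact (hu.2.2.symm.mul_right (hab u hu).symm)
    · rw [← mul_assoc, ← (ha.2.2 : Commute x a).eq.symm, mul_assoc]
      exact (hu.2.2.symm.mul_right (hcen u hu).symm)
  have hxe : x = a * b := by
    rw [eq_inv_of_mul_eq_one_right hP, inv_eq h.grp hx]
  obtain ⟨u, hu, hbu⟩ := h.exists_noncomm_nb haD hba hxa hb.2.1
  have hxu : ¬ Commute x u := fun hc => hbu (by
    have h2 := (hu.2.2.inv_left).mul_left (hxe ▸ hc)
    rwa [inv_mul_cancel_left] at h2)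
  refine hb.2.1 (cj_inj h.grp hu.1 ?_).symm
  have hau : Commute a (b * u * b) := (hab'.mul_right hu.2.2).mul_right hab'
  calc cj u x = x * u * x := cj_comm h.grp hu.1 hx fun e => hxu e.symm
    _ = a * (b * u * b) * a := by
      nth_rw 1 [hxe]
      rw [hxe, hab'.eq]
      nth_rw 1 [← hab'.eq]
      simp only [mul_assoc]
    _ = b * u * b := by rw [hau.eq, mul_assoc, sq h.grp haD, mul_one]
    _ = cj u b := (cj_comm h.grp hu.1 hb.1 fun e => hbu e.symm).symm

/-- Passing from neighbourhoods to the whole set. -/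
theorem ind_succ {k : ℕ} (hk : 1 ≤ k) (hinj : ∀ x ∈ D, InjAt D x) (hind : ∀ x ∈ D, IndAt D k x) :
    Ind D (k + 1) := by
  intro l hnd hlD hlc hl0 hlen hprod
  cases l with
  | nil => exact hl0 rfl
  | cons a t =>
    have ha := hlD a List.mem_cons_self
    rw [List.nodup_cons] at hnd
    have htNb : ∀ b ∈ t, b ∈ Nb D a := fun b hb =>
      ⟨hlD b (List.mem_cons_of_mem _ hb), fun e => hnd.1 (e ▸ hb),
        hlc a List.mem_cons_self b (List.mem_cons_of_mem _ hb)⟩
    rw [List.prod_cons] at hprod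
    rcases eq_or_ne t [] with rfl | ht
    · rw [List.prod_nil, mul_one] at hprod
      obtain ⟨f, hf, hn⟩ := FischerLayer.exists_adj' h.grp h.cls h.two ha
      exact hn (hprod ▸ Commute.one_left f)
    refine hind a ha t ht (by simp only [List.length_cons] at hlen; omega) htNb
      (fun b hb c hc => hlc b (List.mem_cons_of_mem _ hb) c (List.mem_cons_of_mem _ hc))
      (hnd.2.imp_of_mem fun {b c} hb hc hbc hcen =>
        hbc (hinj a ha b (htNb b hb) c (htNb c hc) hcen)) fun u hu => ?_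
    rw [eq_inv_of_mul_eq_one_right hprod, inv_eq h.grp ha]
    exact hu.2.2

end Good

end CfsgLib.ThreeTransp.Indep
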