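import Cfsg.Agent.Lib.ThreeTransp.Indep.Basic
import Cfsg.Agent.Lib.ThreeTransp.UnitarySix.Base

/-!
# The neighbourhood modulo its centre

The group generated by the neighbours of a member, modulo its centre, with their images: the
transfer of properties in both directions.
-/

set_option autoImplicit false
set_option linter.unusedSectionVars false

namespace CfsgLib.ThreeTransp.Indep

open CfsgLib.Sporadic FischerTransitivity Relation UnitarySix

variable {G : Type*} [Group G]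

/-- The subgroup generated by the neighbours of `x`. -/
abbrev NH (D : Set G) (x : G) : Subgroup G := Subgroup.closure (Nb D x)

/-- The neighbourhood group modulo its centre. -/
abbrev NQ (D : Set G) (x : G) : Type _ := ↥(NH D x) ⧸ Subgroup.center ↥(NH D x)

/-- The images of the neighbours. -/
abbrev ND (D : Set G) (x : G) : Set (NQ D x) :=
  (QuotientGroup.mk : ↥(NH D x) → NQ D x) '' {y : ↥(NH D x) | (y : G) ∈ Nb D x}

/-- The image of a neighbour. -/
def nimg {D : Set G} {x a : G} (ha : a ∈ Nb D x) : NQ D x :=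
  QuotientGroup.mk (⟨a, Subgroup.subset_closure ha⟩ : ↥(NH D x))

theorem nimg_mem {D : Set G} {x a : G} (ha : a ∈ Nb D x) : nimg ha ∈ ND D x :=
  ⟨_, ha, rfl⟩

theorem exists_nimg {D : Set G} {x : G} {e : NQ D x} (he : e ∈ ND D x) :
    ∃ (a : G) (ha : a ∈ Nb D x), nimg ha = e := by
  obtain ⟨⟨a, h1⟩, ha, rfl⟩ := he
  exact ⟨a, ha, rfl⟩

theorem mk_eq_one_iff {D : Set G} {x : G} (g : ↥(NH D x)) :
    (QuotientGroup.mk g : NQ D x) = 1 ↔ Cen D x g := by
  rw [QuotientGroup.eq_one_iff]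
  constructor
  · exact fun h u hu =>
      (congrArg Subtype.val (Subgroup.mem_center_iff.1 h ⟨u, Subgroup.subset_closure hu⟩)).symm
  · intro h
    refine Subgroup.mem_center_iff.2 fun k => Subtype.ext ?_
    obtain ⟨k, hk⟩ := k
    show k * (g : G) = g * k
    have hck : Commute k (g : G) := by
      induction hk using Subgroup.closure_induction with
      | mem z hz => exact (h z hz).symm
      | one => exact Commute.one_left _
      | mul _ _ _ _ h1 h2 => exact h1.mul_left h2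
      | inv _ _ e => exact e.inv_left
    exact hck.eq

variable {D : Set G}

theorem nimg_prod {x : G} (l : List G) (hl : ∀ a ∈ l, a ∈ Nb D x) :
    (l.pmap (fun a ha => nimg (D := D) (x := x) ha) hl).prod = 1 ↔ Cen D x l.prod := by
  have key : ∀ (l : List G) (hl : ∀ a ∈ l, a ∈ Nb D x), ∃ g : ↥(NH D x), (g : G) = l.prod ∧
      (QuotientGroup.mk g : NQ D x) = (l.pmap (fun a ha => nimg (D := D) (x := x) ha) hl).prod := by
    intro l
    induction l with
    | nil => intro _; exact ⟨1, rfl, rfl⟩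
    | cons a t ih =>
      intro hl
      obtain ⟨g, h1, h2⟩ := ih fun b hb => hl b (List.mem_cons_of_mem _ hb)
      refine ⟨⟨a, Subgroup.subset_closure (hl a List.mem_cons_self)⟩ * g, ?_, ?_⟩
      · rw [Subgroup.coe_mul, h1, List.prod_cons]
      · simp only [List.pmap, List.prod_cons, ← h2]
        rfl
  obtain ⟨g, h1, h2⟩ := key l hl
  rw [← h2, mk_eq_one_iff, h1]

variable (hG : Cfsg.IsThreeTranspositionGroup D)
include hG

theorem nimg_sq {x a : G} (ha : a ∈ Nb D x) : nimg ha * nimg ha = 1 := by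
  rw [nimg, ← QuotientGroup.mk_mul, QuotientGroup.eq_one_iff]
  rw [show (⟨a, Subgroup.subset_closure ha⟩ : ↥(NH D x)) * ⟨a, Subgroup.subset_closure ha⟩ = 1 from
    Subtype.ext (sq hG ha.1)]
  exact one_mem _

theorem nimg_eq_iff {x a b : G} (ha : a ∈ Nb D x) (hb : b ∈ Nb D x) :
    nimg ha = nimg hb ↔ Cen D x (a * b) := by
  rw [← mul_left_inj (nimg hb), nimg_sq hG hb, nimg, nimg, ← QuotientGroup.mk_mul, mk_eq_one_iff]
  rfl

theorem nimg_commute_iff {x a b : G} (ha : a ∈ Nb D x) (hb : b ∈ Nb D x) :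
    Commute (nimg ha) (nimg hb) ↔ Commute a b := by
  constructor
  · intro hc
    by_contra hn
    have h3 : (a * b) ^ 3 = 1 := (hG.1.2 a ha.1 b hb.1).resolve_left fun h => hn (by
      rwa [CfsgLib.ThreeTransp.Basic.commute_iff (sq hG ha.1) (sq hG hb.1)])
    have h2 : (nimg ha * nimg hb) ^ 2 = 1 := by
      rw [hc.mul_pow, pow_two, pow_two, nimg_sq hG ha, nimg_sq hG hb, one_mul]
    have h3' : (nimg ha * nimg hb) ^ 3 = 1 := by
      rw [nimg, nimg, ← QuotientGroup.mk_mul, ← QuotientGroup.mk_pow, QuotientGroup.eq_one_iff]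
      rw [show ((⟨a, Subgroup.subset_closure ha⟩ : ↥(NH D x)) * ⟨b, Subgroup.subset_closure hb⟩) ^ 3 = 1
        from Subtype.ext h3]
      exact one_mem _
    have h1 : nimg ha * nimg hb = 1 := by
      rwa [pow_succ, h2, one_mul] at h3'
    have hcen : Cen D x (a * b) := (nimg_eq_iff hG ha hb).1 (by
      rw [eq_inv_of_mul_eq_one_left h1, inv_eq_of_mul_eq_one_right (nimg_sq hG hb)])
    have e : a * (b * a) = a * (a * b) := by rw [← mul_assoc]; exact (hcen a ha).eq
    exact hn (mul_left_cancel e).symm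
  · intro h
    have e : (⟨a, Subgroup.subset_closure ha⟩ : ↥(NH D x)) * ⟨b, Subgroup.subset_closure hb⟩ =
        ⟨b, Subgroup.subset_closure hb⟩ * ⟨a, Subgroup.subset_closure ha⟩ := Subtype.ext h
    exact congrArg (QuotientGroup.mk : ↥(NH D x) → NQ D x) e

theorem nd_conj {x : G} (q : NQ D x) {e : NQ D x} (he : e ∈ ND D x) : q * e * q⁻¹ ∈ ND D x := by
  obtain ⟨y, hy, rfl⟩ := he
  obtain ⟨k, rfl⟩ := QuotientGroup.mk_surjective q
  refine ⟨k * y * k⁻¹, ?_, by simp⟩
  have h := nb_conj hG (k : G) hy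
  rwa [(Good.commute_closure k.2).eq, mul_assoc, mul_inv_cancel, mul_one] at h

theorem nd_tt {x : G} {e f : NQ D x} (he : e ∈ ND D x) (hf : f ∈ ND D x) :
    (e * f) ^ 2 = 1 ∨ (e * f) ^ 3 = 1 := by
  obtain ⟨y, hy, rfl⟩ := he
  obtain ⟨z, hz, rfl⟩ := hf
  refine (hG.1.2 _ hy.1 _ hz.1).imp (fun h => ?_) fun h => ?_ <;>
  · rw [← QuotientGroup.mk_mul, ← QuotientGroup.mk_pow, show (y * z) ^ _ = 1 from Subtype.ext h]
    rfl

theorem nd_closure (x : G) : Subgroup.closure (ND D x) = ⊤ := by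
  rw [show ND D x = (QuotientGroup.mk' (Subgroup.center ↥(NH D x))) ''
    {y : ↥(NH D x) | (y : G) ∈ Nb D x} from rfl, ← MonoidHom.map_closure]
  rw [show Subgroup.closure {y : ↥(NH D x) | (y : G) ∈ Nb D x} = ⊤ from
    Subgroup.closure_closure_coe_preimage]
  exact Subgroup.map_top_of_surjective _ (QuotientGroup.mk'_surjective _)

theorem nd_grp {x : G} (hne : ∀ e ∈ ND D x, e ≠ 1) :
    Cfsg.IsThreeTranspositionGroup (ND D x) := by
  refine ⟨⟨fun e he => ?_, fun e he f hf => nd_tt hG he hf⟩, fun q e he => nd_conj hG q he,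
    nd_closure hG x⟩
  haveI := Fact.mk Nat.prime_two
  obtain ⟨a, ha, rfl⟩ := exists_nimg he
  exact orderOf_eq_prime (by rw [pow_two, nimg_sq hG ha]) (hne _ he)

theorem sepAt_of_sep {x : G} (h : Sep (ND D x)) : SepAt D x := by
  intro a ha b hb hab
  refine (nimg_eq_iff hG ha hb).1 (h _ (nimg_mem ha) _ (nimg_mem hb) fun e he => ?_)
  obtain ⟨c, hc, rfl⟩ := exists_nimg he
  rw [nimg_commute_iff hG ha hc, nimg_commute_iff hG hb hc]
  exact hab c hc

theorem witAt_of_wit {x : G} (h : Wit (ND D x)) : WitAt D x := by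
  intro a ha b hb hab
  obtain ⟨e, he, hne, h1, h2⟩ := h _ (nimg_mem ha) _ (nimg_mem hb)
    fun hc => hab ((nimg_commute_iff hG ha hb).1 hc)
  obtain ⟨c, hc, rfl⟩ := exists_nimg he
  exact ⟨c, hc, fun e => hne (by subst e; rfl), (nimg_commute_iff hG ha hc).1 h1,
    fun h => h2 ((nimg_commute_iff hG hb hc).2 h)⟩

theorem indAt_of_ind {k : ℕ} {x : G} (h : Ind (ND D x) k) : IndAt D k x := by
  intro l hl0 hlen hlNb hlc hpw hcen
  refine h _ ?_ ?_ ?_ (by simpa using hl0) (by simpa using hlen) ((nimg_prod l hlNb).2 hcen)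
  · refine List.Pairwise.pmap hpw hlNb ?_
    intro a ha b hb hn e
    exact hn ((nimg_eq_iff hG ha hb).1 e)
  · intro e he
    obtain ⟨a, ha, rfl⟩ := List.mem_pmap.1 he
    exact nimg_mem _
  · intro e he f hf
    obtain ⟨a, ha, rfl⟩ := List.mem_pmap.1 he
    obtain ⟨b, hb, rfl⟩ := List.mem_pmap.1 hf
    exact (nimg_commute_iff hG _ _).2 (hlc a ha b hb)

theorem nd_lineFacts [Finite G] {x : G} {F : Type*} [Field F] [Fintype F] (hF : Fintype.card F = 4)
    (e : NQ D x ≃* Cfsg.PSU 6 F 2) (hne : ∃ q ∈ ND D x, q ≠ 1) :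
    LineFacts (ND D x \ {1}) := by
  obtain ⟨q, hq, hq1⟩ := hne
  refine lineFacts_of_iso hF e ?_ ?_ (fun a ha b hb => nd_tt hG ha.1 hb.1) ⟨q, hq, hq1⟩
  · rintro a ⟨ha, ha1⟩
    obtain ⟨a, ha', rfl⟩ := exists_nimg ha
    exact ⟨ha1, nimg_sq hG ha'⟩
  · rintro g a ⟨ha, ha1⟩
    exact ⟨nd_conj hG g ha, fun h => ha1 (conj_eq_one_iff.1 h)⟩

/-- Separation at a member whose neighbourhood group is unitary. -/
theorem base_sep_wit [Finite G] {x : G} {F : Type*} [Field F] [Fintype F] (hF : Fintype.card F = 4)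
    (e : NQ D x ≃* Cfsg.PSU 6 F 2) : SepAt D x ∧ WitAt D x := by
  by_cases hne : ∃ q ∈ ND D x, q ≠ 1
  swap
  · push Not at hne
    refine ⟨sepAt_of_sep hG fun a ha b hb _ => (hne a ha).trans (hne b hb).symm,
      witAt_of_wit hG fun a ha b hb hab => absurd ?_ hab⟩
    rw [hne a ha]; exact Commute.one_left b
  have hL := nd_lineFacts hG hF e hne
  refine ⟨sepAt_of_sep hG fun a ha b hb hab => ?_, witAt_of_wit hG fun a ha b hb hab => ?_⟩
  · have hone : ∀ a ∈ ND D x, a = 1 → ∀ b ∈ ND D x, (∀ e ∈ ND D x, Commute a e ↔ Commute b e) →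
        a = b := by
      rintro a ha rfl b hb hab
      by_contra hb1
      obtain ⟨f, hf, hnc⟩ := hL.noncomm b ⟨hb, fun e => hb1 (Set.mem_singleton_iff.1 e).symm⟩
      exact hnc ((hab f hf.1).1 (Commute.one_left f))
    by_cases ha1 : a = 1
    · exact hone a ha ha1 b hb hab
    by_cases hb1 : b = 1
    · exact (hone b hb hb1 a ha fun e he => (hab e he).symm).symm
    exact hL.sep a ⟨ha, ha1⟩ b ⟨hb, hb1⟩ fun e he => hab e he.1
  · have ha1 : a ≠ 1 := fun e => hab (e ▸ Commute.one_left b)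
    have hb1 : b ≠ 1 := fun e => hab (e ▸ Commute.one_right a)
    obtain ⟨f, hf, h1, h2, h3⟩ := hL.witness a ⟨ha, ha1⟩ b ⟨hb, hb1⟩ hab
    exact ⟨f, hf.1, h1, h2, h3⟩

omit hG in
/-- Under transitivity on the neighbours no image is trivial. -/
theorem nd_ne_one [Finite G] (h : Good D) {x : G} (hx : x ∈ D) {a b : G} (ha : a ∈ Nb D x)
    (hb : b ∈ Nb D x) (hab : ¬ Commute a b) : ∀ e ∈ ND D x, e ≠ 1 := by
  rintro e he rfl
  obtain ⟨y, hy, h1⟩ := exists_nimg he
  have hone : ∀ z (hz : z ∈ Nb D x), nimg hz = 1 := by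
    intro z hz
    obtain ⟨g, hg, rfl⟩ := h.nbtr hx hy hz
    have e1 : nimg hz = QuotientGroup.mk (⟨g, hg⟩ : ↥(NH D x)) * nimg hy *
        (QuotientGroup.mk (⟨g, hg⟩ : ↥(NH D x)))⁻¹ := by
      rw [nimg, nimg, ← QuotientGroup.mk_mul, ← QuotientGroup.mk_inv, ← QuotientGroup.mk_mul]
      rfl
    rw [e1, h1, mul_one, mul_inv_cancel]
  exact hab ((nimg_commute_iff h.grp ha hb).1 (by rw [hone a ha]; exact Commute.one_left _))

omit hG in
/-- The images form one class. -/
theorem nd_cls [Finite G] (h : Good D) {x : G} (hx : x ∈ D) :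
    ∀ p ∈ ND D x, ∀ q ∈ ND D x, ∃ k : NQ D x, k * p * k⁻¹ = q := by
  intro p hp q hq
  obtain ⟨a, ha, rfl⟩ := exists_nimg hp
  obtain ⟨b, hb, rfl⟩ := exists_nimg hq
  obtain ⟨g, hg, rfl⟩ := h.nbtr hx ha hb
  refine ⟨QuotientGroup.mk (⟨g, hg⟩ : ↥(NH D x)), ?_⟩
  rw [nimg, nimg, ← QuotientGroup.mk_mul, ← QuotientGroup.mk_inv, ← QuotientGroup.mk_mul]
  rfl

end CfsgLib.ThreeTransp.Indep
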